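import Mathlib

/-!
Row-vector times matrix arithmetic over `ZMod 7` with the rows of the matrix packed into naturals
(base `4096` digits), and the bridge to Mathlib's `Matrix`.
-/

set_option autoImplicit false

namespace Cfsg.Agent.Lib.helper17.ON45

/-- dot product of two lists of naturals (written with the recursors, for the kernel) -/
def onfDot (a : List Nat) : List Nat → Nat :=
  @List.rec Nat (fun _ => List Nat → Nat) (fun _ => 0)
    (fun x _ ih b => @List.rec Nat (fun _ => Nat) 0 (fun y bs _ => Nat.add (Nat.mul x y) (ih bs)) b) a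

theorem onfDot_nil_left (b : List Nat) : onfDot [] b = 0 := rfl
theorem onfDot_nil_right (a : List Nat) : onfDot a [] = 0 := by
  cases a <;> rfl
theorem onfDot_cons (x y : Nat) (as bs : List Nat) :
    onfDot (x :: as) (y :: bs) = x * y + onfDot as bs := rfl

/-- the `n` lowest base-4096 digits of `R`, each reduced mod 7 -/
def onfUnpack (n : Nat) : Nat → List Nat :=
  @Nat.rec (fun _ => Nat → List Nat) (fun _ => [])
    (fun _ ih R => Nat.mod (Nat.mod R 4096) 7 :: ih (Nat.div R 4096)) n

theorem onfUnpack_zero (R : Nat) : onfUnpack 0 R = [] := rfl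
theorem onfUnpack_succ (n R : Nat) :
    onfUnpack (n + 1) R = (R % 4096 % 7) :: onfUnpack n (R / 4096) := rfl

/-- row vector times a matrix with packed rows, mod 7 -/
def onfVmulP (n : Nat) (v : List Nat) (P : List Nat) : List Nat := onfUnpack n (onfDot v P)

/-- run a word on a row vector -/
def onfRun (n : Nat) (tbl : Nat → List Nat) (w : List Nat) : List Nat → List Nat :=
  @List.rec Nat (fun _ => List Nat → List Nat) (fun v => v)
    (fun s _ ih v => ih (onfVmulP n v (tbl s))) w

theorem onfRun_nil (n : Nat) (tbl : Nat → List Nat) (v : List Nat) : onfRun n tbl [] v = v := rfl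
theorem onfRun_cons (n : Nat) (tbl : Nat → List Nat) (s : Nat) (w : List Nat) (v : List Nat) :
    onfRun n tbl (s :: w) v = onfRun n tbl w (onfVmulP n v (tbl s)) := rfl

/-- the digit -/
def onfDig (x j : Nat) : Nat := x / 4096 ^ j % 4096

/-- a list as a vector over `ZMod 7` -/
def onfVec (n : Nat) (v : List Nat) : Fin n → ZMod 7 := fun i => ((v.getD i 0 : Nat) : ZMod 7)

/-- a list of packed rows as a matrix over `ZMod 7` -/
def onfMatP (n : Nat) (P : List Nat) : Matrix (Fin n) (Fin n) (ZMod 7) :=
  fun i j => ((onfDig (P.getD i 0) j : Nat) : ZMod 7)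

theorem onfDot_eq (n : Nat) : ∀ (a b : List Nat), a.length = n →
    onfDot a b = ∑ i ∈ Finset.range n, a.getD i 0 * b.getD i 0 := by
  induction n with
  | zero =>
    intro a b ha
    have : a = [] := List.length_eq_zero_iff.mp ha
    subst this
    simp [onfDot_nil_left]
  | succ m ih =>
    intro a b ha
    cases a with
    | nil => simp at ha
    | cons x as =>
      have has : as.length = m := by simpa using ha
      cases b with
      | nil =>
        simp [onfDot_nil_right]
      | cons y bs =>
        rw [Finset.sum_range_succ', onfDot_cons, ih as bs has]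
        simp [add_comm]

/-- the packed value of a digit function -/
def onfS (n : Nat) (f : Nat → Nat) : Nat := ∑ j ∈ Finset.range n, f j * 4096 ^ j

theorem onfS_succ (n : Nat) (f : Nat → Nat) :
    onfS (n + 1) f = f 0 + 4096 * onfS n (fun j => f (j + 1)) := by
  unfold onfS
  rw [Finset.sum_range_succ', Finset.mul_sum]
  simp only [pow_zero, mul_one]
  rw [add_comm]
  congr 1
  apply Finset.sum_congr rfl
  intro j _
  ring

theorem onfUnpack_S : ∀ (n : Nat) (f : Nat → Nat), (∀ j < n, f j < 4096) →
    onfUnpack n (onfS n f) = (List.range n).map (fun j => f j % 7) := by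
  intro n
  induction n with
  | zero => intro f _; rfl
  | succ m ih =>
    intro f hf
    rw [onfUnpack_succ, onfS_succ]
    have h0 : f 0 < 4096 := hf 0 (Nat.succ_pos m)
    have h1 : (f 0 + 4096 * onfS m (fun j => f (j + 1))) % 4096 = f 0 := by
      rw [Nat.add_mul_mod_self_left, Nat.mod_eq_of_lt h0]
    have h2 : (f 0 + 4096 * onfS m (fun j => f (j + 1))) / 4096 = onfS m (fun j => f (j + 1)) := by
      rw [Nat.add_mul_div_left _ _ (by norm_num), Nat.div_eq_of_lt h0, zero_add]
    rw [h1, h2, ih (fun j => f (j + 1)) (fun j hj => hf (j + 1) (Nat.succ_lt_succ hj)),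
      List.range_succ_eq_map]
    simp [Function.comp_def]

theorem onfS_dig : ∀ (n x : Nat), x < 4096 ^ n → x = onfS n (fun j => onfDig x j) := by
  intro n
  induction n with
  | zero =>
    intro x hx
    simp at hx
    subst hx
    simp [onfS]
  | succ m ih =>
    intro x hx
    rw [onfS_succ]
    have hx' : x / 4096 < 4096 ^ m := by
      rw [Nat.div_lt_iff_lt_mul (by norm_num)]
      calc x < 4096 ^ (m + 1) := hx
        _ = 4096 ^ m * 4096 := pow_succ _ _
    have h1 := ih (x / 4096) hx'
    have h2 : (fun j => onfDig x (j + 1)) = (fun j => onfDig (x / 4096) j) := by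
      funext j
      unfold onfDig
      rw [pow_succ', Nat.div_div_eq_div_mul]
    have h3 : onfDig x 0 = x % 4096 := by
      unfold onfDig
      simp
    rw [h2, ← h1, h3]
    exact (Nat.mod_add_div x 4096).symm

theorem onfUnpack_length : ∀ (n R : Nat), (onfUnpack n R).length = n := by
  intro n
  induction n with
  | zero => intro R; rfl
  | succ m ih => intro R; rw [onfUnpack_succ, List.length_cons, ih]

theorem onfUnpack_le : ∀ (n R : Nat), ∀ x ∈ onfUnpack n R, x ≤ 6 := by
  intro n
  induction n with
  | zero => intro R x hx; simp [onfUnpack_zero] at hx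
  | succ m ih =>
    intro R x hx
    rw [onfUnpack_succ, List.mem_cons] at hx
    rcases hx with rfl | hx
    · have := Nat.mod_lt (R % 4096) (show 0 < 7 by norm_num)
      omega
    · exact ih _ x hx

/-- the table of packed rows is good: every row is below `4096 ^ n`, with all digits at most 6 -/
def onfGood (n : Nat) (P : List Nat) : Prop :=
  ∀ x ∈ P, x < 4096 ^ n ∧ ∀ j < n, onfDig x j ≤ 6

theorem onfGood_getD (n : Nat) (P : List Nat) (h : onfGood n P) (k : Nat) :
    P.getD k 0 < 4096 ^ n ∧ ∀ j < n, onfDig (P.getD k 0) j ≤ 6 := by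
  by_cases hk : k < P.length
  · rw [List.getD_eq_getElem _ _ hk]
    exact h _ (List.getElem_mem hk)
  · rw [List.getD_eq_default _ _ (by omega)]
    refine ⟨by positivity, fun j _ => ?_⟩
    simp [onfDig]

theorem onf_getD_le (v : List Nat) (hv : ∀ x ∈ v, x ≤ 6) (k : Nat) : v.getD k 0 ≤ 6 := by
  by_cases hk : k < v.length
  · rw [List.getD_eq_getElem _ _ hk]
    exact hv _ (List.getElem_mem hk)
  · rw [List.getD_eq_default _ _ (by omega)]
    omega

theorem onfVmulP_spec (n : Nat) (hn : n ≤ 100) (v : List Nat) (P : List Nat) (hv : v.length = n)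
    (hv6 : ∀ x ∈ v, x ≤ 6) (hP : onfGood n P) :
    Matrix.vecMul (onfVec n v) (onfMatP n P) = onfVec n (onfVmulP n v P) := by
  -- the packed dot product as a packed digit function
  have hdot : onfDot v P = onfS n (fun j => ∑ k ∈ Finset.range n, v.getD k 0 * onfDig (P.getD k 0) j) := by
    rw [onfDot_eq n v P hv]
    unfold onfS
    have : ∀ k ∈ Finset.range n, v.getD k 0 * P.getD k 0 =
        ∑ j ∈ Finset.range n, v.getD k 0 * onfDig (P.getD k 0) j * 4096 ^ j := by
      intro k _
      have h1 := onfS_dig n (P.getD k 0) (onfGood_getD n P hP k).1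
      conv_lhs => rw [h1]
      unfold onfS
      rw [Finset.mul_sum]
      apply Finset.sum_congr rfl
      intro j _
      ring
    rw [Finset.sum_congr rfl this, Finset.sum_comm]
    apply Finset.sum_congr rfl
    intro j _
    rw [Finset.sum_mul]
  have hbound : ∀ j < n, (∑ k ∈ Finset.range n, v.getD k 0 * onfDig (P.getD k 0) j) < 4096 := by
    intro j hj
    have h1 : ∀ k ∈ Finset.range n, v.getD k 0 * onfDig (P.getD k 0) j ≤ 36 := by
      intro k _
      have a1 := onf_getD_le v hv6 k
      have a2 := (onfGood_getD n P hP k).2 j hj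
      calc v.getD k 0 * onfDig (P.getD k 0) j ≤ 6 * 6 := Nat.mul_le_mul a1 a2
        _ = 36 := by norm_num
    have h2 := Finset.sum_le_sum h1
    simp only [Finset.sum_const, Finset.card_range, smul_eq_mul] at h2
    omega
  funext j
  have hj : (j : Nat) < n := j.isLt
  have h3 : (onfVmulP n v P).getD (j : Nat) 0 =
      (∑ k ∈ Finset.range n, v.getD k 0 * onfDig (P.getD k 0) j) % 7 := by
    unfold onfVmulP
    rw [hdot, onfUnpack_S n _ hbound, List.getD_eq_getElem _ _ (by simp)]
    simp
  have h4 := Fin.sum_univ_eq_sum_range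
    (fun k => ((v.getD k 0 : Nat) : ZMod 7) * ((onfDig (P.getD k 0) j : Nat) : ZMod 7)) n
  have h5 : (((onfVmulP n v P).getD j 0 : Nat) : ZMod 7) =
      ∑ k ∈ Finset.range n, ((v.getD k 0 : Nat) : ZMod 7) * ((onfDig (P.getD k 0) j : Nat) : ZMod 7) := by
    rw [h3, ZMod.natCast_mod, Nat.cast_sum]
    apply Finset.sum_congr rfl
    intro k _
    rw [Nat.cast_mul]
  show ∑ i : Fin n, (fun k => ((v.getD k 0 : Nat) : ZMod 7) * ((onfDig (P.getD k 0) j : Nat) : ZMod 7)) (i : Nat) =
    (((onfVmulP n v P).getD j 0 : Nat) : ZMod 7)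
  rw [h4, h5]

/-- the product of the matrices of a word -/
def onfWmat (n : Nat) (tbl : Nat → List Nat) (w : List Nat) : Matrix (Fin n) (Fin n) (ZMod 7) :=
  (w.map (fun s => onfMatP n (tbl s))).prod

theorem onfRun_spec (n : Nat) (hn : n ≤ 100) (tbl : Nat → List Nat) (htbl : ∀ s, onfGood n (tbl s)) :
    ∀ (w : List Nat) (v : List Nat), v.length = n → (∀ x ∈ v, x ≤ 6) →
      Matrix.vecMul (onfVec n v) (onfWmat n tbl w) = onfVec n (onfRun n tbl w v) := by
  intro w
  induction w with
  | nil =>
    intro v hv _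
    simp [onfWmat, onfRun_nil]
  | cons s w ih =>
    intro v hv hv6
    have hl : (onfVmulP n v (tbl s)).length = n := onfUnpack_length _ _
    have hl6 : ∀ x ∈ onfVmulP n v (tbl s), x ≤ 6 := onfUnpack_le _ _
    have h1 : onfWmat n tbl (s :: w) = onfMatP n (tbl s) * onfWmat n tbl w := by
      simp [onfWmat]
    rw [h1, ← Matrix.vecMul_vecMul, onfVmulP_spec n hn v _ hv hv6 (htbl s), ih _ hl hl6, onfRun_cons]

/-- the unit row vector times a constant -/
def onfUnitC (n c i : Nat) : List Nat := (List.range n).map (fun j => if j = i then c else 0)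

/-- the check: the word acts as the scalar `c` -/
def onfChk (tbl : Nat → List Nat) (n c : Nat) (w : List Nat) : Bool :=
  (List.range n).all (fun i => onfRun n tbl w (onfUnitC n 1 i) == onfUnitC n c i)

theorem onfUnitC_vec (n c : Nat) (i : Fin n) :
    onfVec n (onfUnitC n c i) = Pi.single i ((c : Nat) : ZMod 7) := by
  funext j
  simp only [onfVec, onfUnitC]
  rw [List.getD_eq_getElem _ _ (by simp)]
  simp only [List.getElem_map, List.getElem_range]
  by_cases h : j = i
  · subst h
    simp
  · have h' : (j : Nat) ≠ (i : Nat) := fun e => h (Fin.ext e)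
    simp [h, h']

theorem onfChk_spec (n : Nat) (hn : n ≤ 100) (tbl : Nat → List Nat) (htbl : ∀ s, onfGood n (tbl s))
    (c : Nat) (w : List Nat) (h : onfChk tbl n c w = true) :
    onfWmat n tbl w = ((c : Nat) : ZMod 7) • (1 : Matrix (Fin n) (Fin n) (ZMod 7)) := by
  ext i j
  have hi : (i : Nat) ∈ List.range n := List.mem_range.mpr i.isLt
  have h1 := (List.all_eq_true.mp h) (i : Nat) hi
  have h2 : onfRun n tbl w (onfUnitC n 1 i) = onfUnitC n c i := by simpa using h1
  have hlen : (onfUnitC n 1 i).length = n := by simp [onfUnitC]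
  have h6 : ∀ x ∈ onfUnitC n 1 i, x ≤ 6 := by
    intro x hx
    simp only [onfUnitC, List.mem_map, List.mem_range] at hx
    obtain ⟨j, _, rfl⟩ := hx
    split <;> omega
  have h3 := onfRun_spec n hn tbl htbl w (onfUnitC n 1 i) hlen h6
  rw [h2, onfUnitC_vec, onfUnitC_vec, Nat.cast_one, Matrix.single_one_vecMul] at h3
  have h4 : (onfWmat n tbl w : Matrix (Fin n) (Fin n) (ZMod 7)) i j =
      (Pi.single i ((c : Nat) : ZMod 7) : Fin n → ZMod 7) j := congrFun h3 j
  rw [h4]
  by_cases hij : i = j
  · subst hij
    simp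
  · simp [Matrix.one_apply_ne hij, Ne.symm hij]

/-- the Boolean form of `onfGood` -/
def onfGoodB (n : Nat) (P : List Nat) : Bool :=
  P.all (fun x => decide (x < 4096 ^ n) && (List.range n).all (fun j => decide (onfDig x j ≤ 6)))

theorem onfGood_of_B (n : Nat) (P : List Nat) (h : onfGoodB n P = true) : onfGood n P := by
  intro x hx
  have h1 := (List.all_eq_true.mp h) x hx
  rw [Bool.and_eq_true] at h1
  refine ⟨of_decide_eq_true h1.1, fun j hj => ?_⟩
  exact of_decide_eq_true ((List.all_eq_true.mp h1.2) j (List.mem_range.mpr hj))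

end Cfsg.Agent.Lib.helper17.ON45
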