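import Mathlib
import Cfsg.Agent.Lib.Helper12.TCG.ONPres
import Cfsg.Agent.Lib.helper17.ON45.MatP
import Cfsg.Agent.Lib.helper17.ON45.Tab

/-!
The certificate: the eight 45 x 45 matrices over `ZMod 7` satisfy the relators of the cover of the O'Nan group
(the last three relators give the scalar `4`).
-/

set_option autoImplicit false

namespace Cfsg.Agent.Lib.helper17.ON45

open Cfsg.Spor Cfsg.Agent.Lib.Helper12.TC Cfsg.Agent.Lib.Helper12.TCG

set_option maxRecDepth 1000000 in
theorem onfTbl_goodB : ∀ s < 8, onfGoodB 45 (onfTbl s) = true := by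
  decide +kernel

theorem onfTbl_good (s : Nat) : onfGood 45 (onfTbl s) := by
  by_cases hs : s < 8
  · exact onfGood_of_B 45 _ (onfTbl_goodB s hs)
  · have : onfTbl s = onfTbl 0 := by
      unfold onfTbl
      split <;> first | omega | rfl
    rw [this]
    exact onfGood_of_B 45 _ (onfTbl_goodB 0 (by norm_num))

/-- the words that give the identity -/
def onfWords1 : List (List Nat) :=
  coxWords ON.edges ONPres.gen 6 ++ ([[0, 5, 7, 7], [0, 5, 3, 2, 3, 2, 3, 2, 3, 2],
      [2, 7, 3, 7, 3, 2, 3, 6, 3, 6], [3, 7, 2, 7, 2, 3, 2, 6, 2, 6]] ++ ONPres.pairWords)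

/-- the words that give the central element -/
def onfWordsZ : List (List Nat) :=
  [[1, 2, 3, 6, 1, 2, 3, 6, 1, 2, 3, 6, 1, 2, 3, 6, 1, 2, 3, 6],
      [6, 1, 2, 6, 2, 1, 6, 1, 2, 6, 2], [6, 4, 3, 6, 3, 4, 6, 4, 3, 6, 3]]

set_option maxRecDepth 1000000 in
theorem onfWords1_chk : onfWords1.all (fun b => onfChk onfTbl 45 1 b) = true := by
  decide +kernel

set_option maxRecDepth 1000000 in
theorem onfWordsZ_chk : onfWordsZ.all (fun b => onfChk onfTbl 45 4 b) = true := by
  decide +kernel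

theorem onfWords1_mat (b : List Nat) (hb : b ∈ onfWords1) : onfWmat 45 onfTbl b = 1 := by
  have h := (List.all_eq_true.mp onfWords1_chk) b hb
  have := onfChk_spec 45 (by norm_num) onfTbl onfTbl_good 1 b h
  rw [this]
  simp

theorem onfWordsZ_mat (b : List Nat) (hb : b ∈ onfWordsZ) :
    onfWmat 45 onfTbl b = ((4 : Nat) : ZMod 7) • (1 : Matrix (Fin 45) (Fin 45) (ZMod 7)) := by
  have h := (List.all_eq_true.mp onfWordsZ_chk) b hb
  exact onfChk_spec 45 (by norm_num) onfTbl onfTbl_good 4 b h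

end Cfsg.Agent.Lib.helper17.ON45
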