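import Mathlib
import Cfsg.Prelude.Def_Sporadic
import Cfsg.Agent.Lib.Helper12.Ord.ONOrder
import Cfsg.Agent.Lib.Helper12.Ord.ONSimple
import Cfsg.Agent.Lib.helper17.ONM.Defs
import Cfsg.Agent.Lib.helper6.ONMCOVLIFT
import Cfsg.Agent.Lib.helper6.ONMCOVEXcore
import Cfsg.Agent.Lib.helper17.ON45.Chk

/-!
The triple cover of the O'Nan group inside `SL(45, 7)`: the presented cover `Cov` of project ONM maps to the group of
units of the 45 x 45 matrices over `ZMod 7` (certificate `ON45/Chk.lean`), with the central element going to the scalar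
`4`; the map is injective because `ON` is simple, and it lands in `SL` because the image is generated by commutators.
-/

set_option autoImplicit false

namespace Cfsg.Agent.Lib.helper17.ON45

open Cfsg.Spor Cfsg.Agent.Lib.Helper12.TC Cfsg.Agent.Lib.Helper12.TCG Cfsg.Agent.Lib.Helper12.Ord
  Cfsg.Agent.Lib.helper17.ONM

/-- the matrices -/
abbrev onfM : Type := Matrix (Fin 45) (Fin 45) (ZMod 7)

/-- a letter as a unit, given its inverse letter -/
def onfU (s t : Nat) (h1 : onfWmat 45 onfTbl [s, t] = 1) (h2 : onfWmat 45 onfTbl [t, s] = 1) : onfMˣ :=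
  ⟨onfMatP 45 (onfTbl s), onfMatP 45 (onfTbl t), by simpa [onfWmat] using h1, by simpa [onfWmat] using h2⟩

/-- the letters as units -/
def onfF : ℕ → onfMˣ
  | 0 => onfU 0 0 (onfWords1_mat _ (by decide)) (onfWords1_mat _ (by decide))
  | 1 => onfU 1 1 (onfWords1_mat _ (by decide)) (onfWords1_mat _ (by decide))
  | 2 => onfU 2 2 (onfWords1_mat _ (by decide)) (onfWords1_mat _ (by decide))
  | 3 => onfU 3 3 (onfWords1_mat _ (by decide)) (onfWords1_mat _ (by decide))
  | 4 => onfU 4 4 (onfWords1_mat _ (by decide)) (onfWords1_mat _ (by decide))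
  | 5 => onfU 5 5 (onfWords1_mat _ (by decide)) (onfWords1_mat _ (by decide))
  | 6 => onfU 6 7 (onfWords1_mat _ (by decide)) (onfWords1_mat _ (by decide))
  | 7 => onfU 7 6 (onfWords1_mat _ (by decide)) (onfWords1_mat _ (by decide))
  | _ => 1

theorem onfF_val (s : ℕ) (hs : s < 8) : ((onfF s : onfMˣ) : onfM) = onfMatP 45 (onfTbl s) := by
  interval_cases s <;> rfl

theorem onfF_inv : ∀ s < 8, onfF (invS ONPres.cIV s) = (onfF s)⁻¹ := by
  intro s hs
  interval_cases s
  · exact Units.ext rfl
  · exact Units.ext rfl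
  · exact Units.ext rfl
  · exact Units.ext rfl
  · exact Units.ext rfl
  · exact Units.ext rfl
  · exact Units.ext rfl
  · exact Units.ext rfl

theorem onf_wprod_val : ∀ b : List ℕ, (∀ s ∈ b, s < 8) →
    ((wprod onfF b : onfMˣ) : onfM) = onfWmat 45 onfTbl b := by
  intro b
  induction b with
  | nil =>
    intro _
    simp [wprod_nil, onfWmat]
  | cons s l ih =>
    intro hl
    have h1 : onfWmat 45 onfTbl (s :: l) = onfMatP 45 (onfTbl s) * onfWmat 45 onfTbl l := by
      simp [onfWmat]
    rw [wprod_cons, Units.val_mul, ih (fun t ht => hl t (List.mem_cons_of_mem _ ht)),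
      onfF_val s (hl s List.mem_cons_self), h1]

theorem onfWords1_lt : ∀ b ∈ onfWords1, ∀ s ∈ b, s < 8 := by decide

theorem onfWordsZ_lt : ∀ b ∈ onfWordsZ, ∀ s ∈ b, s < 8 := by decide

/-- the central element: the scalar `4` -/
def onfZ : onfMˣ :=
  ⟨((4 : ℕ) : ZMod 7) • (1 : onfM), ((2 : ℕ) : ZMod 7) • (1 : onfM),
    by
      rw [smul_mul_smul_comm, mul_one]
      have : ((4 : ℕ) : ZMod 7) * ((2 : ℕ) : ZMod 7) = 1 := by decide
      rw [this, one_smul],
    by
      rw [smul_mul_smul_comm, mul_one]
      have : ((2 : ℕ) : ZMod 7) * ((4 : ℕ) : ZMod 7) = 1 := by decide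
      rw [this, one_smul]⟩

theorem onfZ_val : ((onfZ : onfMˣ) : onfM) = ((4 : ℕ) : ZMod 7) • (1 : onfM) := rfl

theorem onfZ_pow : onfZ ^ 3 = 1 := by
  apply Units.ext
  rw [Units.val_pow_eq_pow_val, onfZ_val, smul_pow, one_pow, Units.val_one]
  have : (((4 : ℕ) : ZMod 7)) ^ 3 = 1 := by decide
  rw [this, one_smul]

theorem onfZ_ne : onfZ ≠ 1 := by
  intro h
  have h1 := congrArg (fun u : onfMˣ => (u : onfM) 0 0) h
  simp only [onfZ_val, Units.val_one, Matrix.smul_apply, Matrix.one_apply_eq, smul_eq_mul, mul_one] at h1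
  exact absurd h1 (by decide)

theorem onfZ_comm (x : onfMˣ) : x * onfZ = onfZ * x := by
  apply Units.ext
  rw [Units.val_mul, Units.val_mul, onfZ_val, Matrix.mul_smul, Matrix.smul_mul, mul_one, one_mul]

/-- the cover of the O'Nan group as a group of matrices -/
theorem onf_lift : ∃ μ : Cov →* onfMˣ, μ zC = onfZ := by
  obtain ⟨μ, _, hz⟩ := onm_cov_lift onfF onfZ onfF_inv
    (fun b hb => by
      apply Units.ext
      rw [onf_wprod_val b (onfWords1_lt b hb), onfWords1_mat b hb, Units.val_one])
    (fun b hb => by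
      apply Units.ext
      rw [onf_wprod_val b (onfWordsZ_lt b hb), onfWordsZ_mat b hb, onfZ_val])
    onfZ_pow (fun s _ => onfZ_comm _)
  exact ⟨μ, hz⟩

/-- the centre of a simple group whose order is not a prime is trivial -/
theorem onf_center_bot {G : Type*} [Group G] [IsSimpleGroup G] (h : ¬ (Nat.card G).Prime) :
    Subgroup.center G = ⊥ := by
  rcases IsSimpleGroup.eq_bot_or_eq_top_of_normal (Subgroup.center G) inferInstance with hb | hcen
  · exact hb
  · exfalso
    let _ : CommGroup G :=
      { (inferInstance : Group G) with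
        mul_comm := fun a b => by
          have ha : a ∈ Subgroup.center G := by rw [hcen]; exact Subgroup.mem_top a
          exact (Subgroup.mem_center_iff.mp ha b).symm }
    exact h IsSimpleGroup.prime_card

theorem onf_card_not_prime : ¬ (Nat.card ON).Prime := by
  rw [ONOrder.card_eq]
  norm_num

/-- a homomorphism from the cover that does not kill the central element is injective -/
theorem onf_injective {G : Type*} [Group G] (μ : Cov →* G) (hμ : μ zC ≠ 1) : Function.Injective μ := by
  haveI := ONSimple.isSimpleGroup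
  rw [← MonoidHom.ker_eq_bot_iff]
  have hnorm : (μ.ker.map onmcovexSigma).Normal :=
    Subgroup.Normal.map (MonoidHom.normal_ker μ) _ onmcovexSigma_surj
  have hz3 : (μ zC) ^ 3 = 1 := by rw [← map_pow, onmcovex_z_pow, map_one]
  have hord : orderOf (μ zC) = 3 := orderOf_eq_prime hz3 hμ
  rcases hnorm.eq_bot_or_eq_top with hb | ht
  · rw [Subgroup.eq_bot_iff_forall]
    intro x hx
    have h1 : onmcovexSigma x ∈ μ.ker.map onmcovexSigma := ⟨x, hx, rfl⟩
    rw [hb, Subgroup.mem_bot] at h1
    have h2 : x ∈ onmcovexSigma.ker := h1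
    rw [onmcovex_ker, Subgroup.mem_zpowers_iff] at h2
    obtain ⟨k, rfl⟩ := h2
    have h3 : (μ zC) ^ k = 1 := by rw [← map_zpow]; exact hx
    have h4 : (3 : ℤ) ∣ k := by
      have := orderOf_dvd_iff_zpow_eq_one.mpr h3
      rwa [hord] at this
    obtain ⟨m, rfl⟩ := h4
    rw [zpow_mul]
    have : zC ^ (3 : ℤ) = 1 := by
      have := onmcovex_z_pow
      exact_mod_cast this
    rw [this, one_zpow]
  · exfalso
    apply hμ
    -- every element is central modulo the kernel
    have hdec : ∀ a : Cov, ∃ z : Cov, (∀ x : Cov, x * z = z * x) ∧ μ a = μ z := by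
      intro a
      have ha : onmcovexSigma a ∈ μ.ker.map onmcovexSigma := by rw [ht]; exact Subgroup.mem_top _
      obtain ⟨n, hn, hna⟩ := ha
      have h1 : a * n⁻¹ ∈ onmcovexSigma.ker := by
        rw [MonoidHom.mem_ker, map_mul, map_inv, hna, mul_inv_cancel]
      rw [onmcovex_ker, Subgroup.mem_zpowers_iff] at h1
      obtain ⟨k, hk⟩ := h1
      refine ⟨zC ^ k, fun x => ?_, ?_⟩
      · have hc : Commute x zC := onmcovex_central x
        exact (hc.zpow_right k).eq
      · have hn1 : μ n = 1 := hn
        rw [hk, map_mul, map_inv, hn1, inv_one, mul_one]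
    have hcomm : commutator Cov ≤ μ.ker := by
      rw [commutator_def, Subgroup.commutator_le]
      intro a _ b _
      obtain ⟨za, hza, ha⟩ := hdec a
      obtain ⟨zb, _, hb⟩ := hdec b
      rw [MonoidHom.mem_ker, map_commutatorElement, ha, hb, ← map_commutatorElement,
        commutatorElement_eq_one_iff_mul_comm.mpr (hza zb).symm, map_one]
    exact hcomm onmcovex_z_mem_commutator

/-- the centre of the cover -/
theorem onf_center : Subgroup.center Cov = onmcovexSigma.ker := by
  haveI := ONSimple.isSimpleGroup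
  apply le_antisymm
  · intro x hx
    have h1 : onmcovexSigma x ∈ Subgroup.center ON := by
      rw [Subgroup.mem_center_iff]
      intro y
      obtain ⟨a, rfl⟩ := onmcovexSigma_surj y
      rw [← map_mul, ← map_mul, Subgroup.mem_center_iff.mp hx a]
    rw [onf_center_bot onf_card_not_prime, Subgroup.mem_bot] at h1
    exact h1
  · rw [onmcovex_ker, Subgroup.zpowers_le, Subgroup.mem_center_iff]
    exact onmcovex_central

end Cfsg.Agent.Lib.helper17.ON45
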