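import Mathlib
import Cfsg.Prelude.Def_Sporadic
import Cfsg.Agent.Lib.helper17.ON45.Main

/-!
The triple cover of the O'Nan group inside `SL(45, 7)`: final assembly.
-/

set_option autoImplicit false

namespace Cfsg.Agent.Lib.helper17.ON45

open Cfsg.Spor Cfsg.Agent.Lib.Helper12.TC Cfsg.Agent.Lib.Helper12.TCG Cfsg.Agent.Lib.Helper12.Ord
  Cfsg.Agent.Lib.helper17.ONM

/-- a simple group whose order is not a prime is perfect -/
theorem onf_perfect_of_simple {G : Type*} [Group G] [IsSimpleGroup G] (h : ¬ (Nat.card G).Prime) :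
    commutator G = ⊤ := by
  rcases IsSimpleGroup.eq_bot_or_eq_top_of_normal (commutator G) inferInstance with hb | ht
  · exfalso
    have hcen : Subgroup.center G = ⊤ := (commutator_eq_bot_iff_center_eq_top G).mp hb
    have hbot := onf_center_bot h
    rw [hcen] at hbot
    exact top_ne_bot hbot
  · exact ht

/-- the cover is perfect -/
theorem onf_cov_perfect : commutator Cov = ⊤ := by
  haveI := ONSimple.isSimpleGroup
  rw [eq_top_iff]
  intro x _
  have h1 : onmcovexSigma x ∈ (commutator Cov).map onmcovexSigma := by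
    rw [commutator_def, Subgroup.map_commutator, ← MonoidHom.range_eq_map,
      MonoidHom.range_eq_top.mpr onmcovexSigma_surj, ← commutator_def,
      onf_perfect_of_simple onf_card_not_prime]
    exact Subgroup.mem_top _
  obtain ⟨c, hc, hcx⟩ := h1
  have h2 : x * c⁻¹ ∈ onmcovexSigma.ker := by
    rw [MonoidHom.mem_ker, map_mul, map_inv, hcx, mul_inv_cancel]
  have h3 : onmcovexSigma.ker ≤ commutator Cov := by
    rw [onmcovex_ker, Subgroup.zpowers_le]
    exact onmcovex_z_mem_commutator
  have h4 := (commutator Cov).mul_mem (h3 h2) hc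
  rwa [inv_mul_cancel_right] at h4

/-- a homomorphism from the cover to the units of a matrix ring lands in the special linear group -/
theorem onf_det (μ : Cov →* onfMˣ) (x : Cov) : Matrix.det ((μ x : onfMˣ) : onfM) = 1 := by
  let δ : Cov →* (ZMod 7)ˣ := (Units.map (Matrix.detMonoidHom : onfM →* ZMod 7)).comp μ
  have h1 : commutator Cov ≤ δ.ker := Abelianization.commutator_subset_ker δ
  have h2 : x ∈ δ.ker := h1 (by rw [onf_cov_perfect]; exact Subgroup.mem_top _)
  have h3 : δ x = 1 := h2
  have h5 : ((δ x : (ZMod 7)ˣ) : ZMod 7) = Matrix.det ((μ x : onfMˣ) : onfM) := by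
    show ((Units.map (Matrix.detMonoidHom : onfM →* ZMod 7) (μ x) : (ZMod 7)ˣ) : ZMod 7) = _
    rw [Units.coe_map]
    exact congrFun Matrix.coe_detMonoidHom _
  rw [← h5, h3, Units.val_one]

/-- the image of the centre under an isomorphism -/
theorem onf_map_center {A B : Type*} [Group A] [Group B] (e : A ≃* B) :
    (Subgroup.center A).map (e : A →* B) = Subgroup.center B := by
  ext y
  rw [Subgroup.mem_map]
  constructor
  · rintro ⟨x, hx, rfl⟩
    rw [Subgroup.mem_center_iff]
    intro b
    obtain ⟨a, rfl⟩ := e.surjective b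
    show e a * e x = e x * e a
    rw [← map_mul, ← map_mul, Subgroup.mem_center_iff.mp hx a]
  · intro hy
    refine ⟨e.symm y, ?_, e.apply_symm_apply y⟩
    rw [Subgroup.mem_center_iff]
    intro a
    apply e.injective
    rw [map_mul, map_mul, e.apply_symm_apply]
    exact Subgroup.mem_center_iff.mp hy (e a)

/-- the abstract assembly: an injective image of a group whose centre is the kernel of a surjection -/
theorem onf_abstract {C Q G : Type*} [Group C] [Group Q] [Group G] (σ : C →* Q)
    (hσ : Function.Surjective σ) (hcen : Subgroup.center C = σ.ker) (ν : C →* G)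
    (hν : Function.Injective ν) :
    Nat.card (Subgroup.center ν.range) = Nat.card σ.ker ∧
      Nonempty (Q ≃* ν.range ⧸ Subgroup.center ν.range) := by
  let e : C ≃* ν.range := MonoidHom.ofInjective hν
  constructor
  · rw [← Nat.card_congr (Subgroup.centerCongr e).toEquiv, hcen]
  · have hmap : (Subgroup.center C).map (e : C →* ν.range) = Subgroup.center ν.range := onf_map_center e
    let q1 : C ⧸ Subgroup.center C ≃* ν.range ⧸ Subgroup.center ν.range :=
      QuotientGroup.congr (Subgroup.center C) (Subgroup.center ν.range) e hmap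
    let q2 : C ⧸ Subgroup.center C ≃* C ⧸ σ.ker := QuotientGroup.quotientMulEquivOfEq hcen
    let q3 : C ⧸ σ.ker ≃* Q := QuotientGroup.quotientKerEquivOfSurjective σ hσ
    exact ⟨(q3.symm.trans q2.symm).trans q1⟩

/-- the image in the special linear group -/
def onfSL (μ : Cov →* onfMˣ) (x : Cov) : Matrix.SpecialLinearGroup (Fin 45) (ZMod 7) :=
  ⟨((μ x : onfMˣ) : onfM), onf_det μ x⟩

theorem onfSL_val (μ : Cov →* onfMˣ) (x : Cov) :
    ((onfSL μ x : Matrix.SpecialLinearGroup (Fin 45) (ZMod 7)) : onfM) = ((μ x : onfMˣ) : onfM) := rfl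

/-- the homomorphism to the special linear group -/
theorem onf_nu (μ : Cov →* onfMˣ) (hinj : Function.Injective μ) :
    ∃ ν : Cov →* Matrix.SpecialLinearGroup (Fin 45) (ZMod 7), Function.Injective ν := by
  refine ⟨MonoidHom.mk' (onfSL μ) (fun x y => ?_), ?_⟩
  · apply Subtype.ext
    rw [Matrix.SpecialLinearGroup.coe_mul, onfSL_val, onfSL_val, onfSL_val, map_mul, Units.val_mul]
  · intro x y hxy
    apply hinj
    apply Units.ext
    have h1 : onfSL μ x = onfSL μ y := hxy
    have h2 := congrArg (fun A : Matrix.SpecialLinearGroup (Fin 45) (ZMod 7) => (A : onfM)) h1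
    exact h2

/-- the main theorem -/
theorem onf_main : ∃ H : Subgroup (Matrix.SpecialLinearGroup (Fin 45) (ZMod 7)),
    Nat.card (Subgroup.center H) = 3 ∧ Cfsg.IsON (H ⧸ Subgroup.center H) := by
  haveI := ONSimple.isSimpleGroup
  obtain ⟨μ, hμz⟩ := onf_lift
  have hμ : μ zC ≠ 1 := by rw [hμz]; exact onfZ_ne
  have hz1 : zC ≠ 1 := by
    intro h
    apply hμ
    rw [h, map_one]
  obtain ⟨ν, hνinj⟩ := onf_nu μ (onf_injective μ hμ)
  have hcen : Subgroup.center Cov = onmcovexSigma.ker := onf_center
  have hord : orderOf zC = 3 := orderOf_eq_prime onmcovex_z_pow hz1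
  obtain ⟨h1, ⟨q⟩⟩ := onf_abstract onmcovexSigma onmcovexSigma_surj hcen ν hνinj
  refine ⟨ν.range, ?_, ?_⟩
  · rw [h1, onmcovex_ker, Nat.card_zpowers, hord]
  · haveI : Nontrivial (ν.range ⧸ Subgroup.center ν.range) := q.symm.toEquiv.nontrivial
    refine ⟨q.symm.isSimpleGroup, ?_⟩
    rw [← Nat.card_congr q.toEquiv, ONOrder.card_eq]

end Cfsg.Agent.Lib.helper17.ON45
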